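import Mathlib
import Groth.Prelude.Def_DerCA
import Groth.Agent.Lib.Helper6.ExtCech
import Groth.Agent.Lib.Helper5.KoszulOrth.Ring
import Groth.Agent.Lib.Helper5.Approx.Octa

/-!
# The extended alternating Čech complex in `D(A)` (helper5)

Ring-level input for `RΓ_Z(M~) ≅ (extended Čech complex)~`: the object `toD (extCech M fs)` is
`fs`-power torsion (Helper6) and sits in a distinguished triangle
`toD (extCech M fs) ⟶ M[0] ⟶ B ⟶` with `B` right orthogonal to all shifts of the Koszul object.
-/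
set_option autoImplicit false
set_option linter.unusedSectionVars false
set_option linter.unusedVariables false
universe u
open CategoryTheory CategoryTheory.Limits Pretriangulated
attribute [local instance] HasDerivedCategory.standard

namespace Groth.Agent.Lib.Helper5.ExtCechRG

open DerivedCategory Groth.Agent.Lib.Helper5.BvdB Groth.Agent.Lib.Helper5.Approx
  Groth.Agent.Lib.Helper5.KoszulOrth

variable {A : Type u} [CommRing A]

/-- right orthogonality to all shifts of the Koszul object -/
def KOrth (fs : List A) (B : Dual.D A) : Prop := ∀ (n : ℤ) (φ : (kos fs)⟦n⟧ ⟶ B), φ = 0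

theorem KOrth.of_isZero (fs : List A) {B : Dual.D A} (hB : IsZero B) : KOrth fs B :=
  fun n φ => hB.eq_of_tgt _ _

/-- orthogonality to `kos fs` implies orthogonality to `kos (f :: fs)` -/
theorem KOrth.cons (f : A) {fs : List A} {B : Dual.D A} (h : KOrth fs B) : KOrth (f :: fs) B := by
  intro n φ
  obtain ⟨ι, δ, hT⟩ := kos_triangle f fs
  have hTn := Triangle.shift_distinguished _ hT n
  have h1 : ((Triangle.shiftFunctor (Dual.D A) n).obj
      (Triangle.mk (f • 𝟙 (kos fs)) ι δ)).mor₂ ≫ φ = 0 := h n _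
  obtain ⟨ψ, hψ⟩ := Triangle.yoneda_exact₃ _ hTn φ h1
  let e : ((kos fs)⟦n⟧)⟦(1 : ℤ)⟧ ≅ (kos fs)⟦n + 1⟧ :=
    ((shiftFunctorAdd' (Dual.D A) n 1 (n + 1) rfl).app (kos fs)).symm
  have h2 : e.inv ≫ ψ = 0 := h (n + 1) _
  have h3 : ψ = 0 := by
    have h4 : e.hom ≫ (e.inv ≫ ψ) = ψ := by simp
    rw [← h4, h2]
    exact comp_zero
  rw [hψ, h3]
  exact comp_zero

/-- the orthogonal is closed under extensions -/
theorem KOrth.ext₂ {fs : List A} (T : Triangle (Dual.D A)) (hT : T ∈ distTriang (Dual.D A))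
    (h₁ : KOrth fs T.obj₁) (h₃ : KOrth fs T.obj₃) : KOrth fs T.obj₂ := by
  intro n φ
  have h1 : φ ≫ T.mor₂ = 0 := h₃ n _
  obtain ⟨ψ, hψ⟩ := Triangle.coyoneda_exact₂ _ hT φ h1
  rw [hψ, h₁ n ψ, zero_comp]

section Loc

variable (S : Submonoid A)

theorem bijective_smul_localizedModule (s : S) (M : Type u) [AddCommGroup M] [Module A M] :
    Function.Bijective (fun m : LocalizedModule S M => (s : A) • m) := by
  have h := IsLocalizedModule.map_units (LocalizedModule.mkLinearMap S M) s
  have h2 := (Module.End.isUnit_iff _).1 h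
  exact h2

/-- elements of `S` act invertibly on a termwise localisation at `S` -/
theorem isIso_smul_locCx (s : S) (K : DRing.Cx A) :
    IsIso ((s : A) • 𝟙 (DRing.toD ((DerCA.locCx S).obj K))) := by
  have hc : IsIso ((s : A) • 𝟙 ((DerCA.locCx S).obj K)) := by
    haveI : ∀ n : ℤ, IsIso (((s : A) • 𝟙 ((DerCA.locCx S).obj K)).f n) := by
      intro n
      rw [ConcreteCategory.isIso_iff_bijective]
      exact bijective_smul_localizedModule S s (K.X n)
    exact HomologicalComplex.Hom.isIso_of_components _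
  have hq : DerivedCategory.Q.map ((s : A) • 𝟙 ((DerCA.locCx S).obj K)) =
      (s : A) • 𝟙 (DRing.toD ((DerCA.locCx S).obj K)) := by
    simp only [Functor.map_smul, CategoryTheory.Functor.map_id]
  rw [← hq]
  infer_instance

end Loc

/-- a termwise localisation at `f` is orthogonal to `kos (f :: fs)` -/
theorem korth_loc (f : A) (fs : List A) (K : DRing.Cx A) :
    KOrth (f :: fs) (DRing.toD ((DerCA.locCx (Submonoid.powers f)).obj K)) := by
  intro n φ
  obtain ⟨a, ha⟩ := kos_ann (f :: fs) f List.mem_cons_self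
  have h1 : (f ^ a) • 𝟙 ((kos (f :: fs))⟦n⟧) = 0 := smul_id_shift_eq_zero _ _ ha n
  haveI : IsIso ((f ^ a) • 𝟙 (DRing.toD ((DerCA.locCx (Submonoid.powers f)).obj K))) :=
    isIso_smul_locCx (Submonoid.powers f) ⟨f ^ a, a, rfl⟩ K
  have h2 : φ ≫ ((f ^ a) • 𝟙 (DRing.toD ((DerCA.locCx (Submonoid.powers f)).obj K))) = 0 := by
    rw [Linear.comp_smul, Category.comp_id]
    have : (f ^ a) • φ = ((f ^ a) • 𝟙 ((kos (f :: fs))⟦n⟧)) ≫ φ := by
      rw [Linear.smul_comp, Category.id_comp]
    rw [this, h1, zero_comp]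
  exact (cancel_mono ((f ^ a) • 𝟙 (DRing.toD ((DerCA.locCx (Submonoid.powers f)).obj K)))).1
    (h2.trans zero_comp.symm)

/-- the extended Čech complex has `fs`-power torsion cohomology -/
theorem powTors_extCech (M : ModuleCat.{u} A) (fs : List A) :
    ∀ g ∈ fs, PowTors g (DRing.toD (DerCA.extCech M fs)) := by
  intro g hg n m
  let φ := (Groth.Agent.Lib.Helper6.ExtCech.eH (DerCA.extCech M fs) n).toLinearEquiv
  obtain ⟨e, he⟩ := Groth.Agent.Lib.Helper6.ExtCech.torsion M fs g hg n (φ m)
  refine ⟨e, ?_⟩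
  apply φ.injective
  rw [map_smul, he, map_zero]

/-- the base case: the complex for the empty list is the module in degree `0` -/
noncomputable def extCechNilIso (M : ModuleCat.{u} A) :
    DRing.toD (DerCA.extCech M []) ≅ Dual.inD A M :=
  ((singleFunctorIsoCompQ (ModuleCat.{u} A) 0).app M).symm

/-- **the torsion/orthogonal triangle of the extended Čech complex** -/
theorem exists_triangle (M : ModuleCat.{u} A) : ∀ fs : List A,
    ∃ (B : Dual.D A) (a : DRing.toD (DerCA.extCech M fs) ⟶ Dual.inD A M)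
      (b : Dual.inD A M ⟶ B) (c : B ⟶ (DRing.toD (DerCA.extCech M fs))⟦(1 : ℤ)⟧),
      Triangle.mk a b c ∈ distTriang (Dual.D A) ∧ KOrth fs B := by
  intro fs
  induction fs with
  | nil =>
    obtain ⟨B, b, c, hT⟩ := distinguished_cocone_triangle (extCechNilIso M).hom
    have hB : IsZero B := (Triangle.isZero₃_iff_isIso₁ _ hT).2 (by
      show IsIso (extCechNilIso M).hom
      infer_instance)
    exact ⟨B, _, b, c, hT, KOrth.of_isZero _ hB⟩
  | cons f fs ih =>
    obtain ⟨B, a, b, c, hT, hB⟩ := ih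
    let φ := DerCA.locCxUnit (Submonoid.powers f) (DerCA.extCech M fs)
    have hφ := DerivedCategory.mappingCocone_triangle_distinguished φ
    obtain ⟨Z, v, w, m₁, m₃, h₁₃, hm⟩ := octa_compose
      (DerivedCategory.Q.mapTriangle.obj (CochainComplex.mappingCocone.triangle φ)).mor₁
      (DerivedCategory.Q.mapTriangle.obj (CochainComplex.mappingCocone.triangle φ)).mor₂
      (DerivedCategory.Q.mapTriangle.obj (CochainComplex.mappingCocone.triangle φ)).mor₃
      hφ a b c hT
    refine ⟨Z, _, v, w, h₁₃, ?_⟩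
    exact KOrth.ext₂ _ hm (korth_loc f fs (DerCA.extCech M fs)) (KOrth.cons f hB)

end Groth.Agent.Lib.Helper5.ExtCechRG
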