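import Mathlib
import Groth.Agent.Lib.Helper5.ExtCech.Ring
import Groth.Agent.Lib.Helper5.KoszulOrth.Push
import Groth.Agent.Lib.Helper5.CxOX.Main

/-!
# `RΓ_Z(M~)` is represented by the extended alternating Čech complex (helper5)
-/
set_option autoImplicit false
set_option linter.unusedSectionVars false
set_option linter.unusedVariables false
universe u
open CategoryTheory CategoryTheory.Limits AlgebraicGeometry Pretriangulated TopologicalSpace
open scoped ZeroObject
attribute [local instance] HasDerivedCategory.standard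

namespace Groth.Agent.Lib.Helper5.ExtCechRG

open Groth.Agent.Lib.Helper5 Groth.Agent.Lib.Helper5.QC
  Groth.Agent.Lib.Helper5.BvdB Groth.Agent.Lib.Helper5.KoszulOrth
  Groth.Agent.Lib.Helper5.CxTri Groth.Agent.Lib.Helper5.HomVanish
  Groth.Agent.Helper3.KInjDer

section Stalk

variable (R : CommRingCat.{u})

/-- the stalk of `H~` at a prime not containing `f` vanishes if `H` is `f`-power torsion -/
theorem subsingleton_stalk_tilde' (H : ModuleCat.{u} R) (f : R)
    (hH : ∀ h : H, ∃ a : ℕ, f ^ a • h = 0) (x : PrimeSpectrum.Top R) (hx : f ∉ x.asIdeal) :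
    Subsingleton ((tilde H).presheaf.stalk x) := by
  haveI : IsLocalizedModule x.asIdeal.primeCompl (tilde.toStalk H x).hom := inferInstance
  refine ⟨fun y z => ?_⟩
  suffices h0 : ∀ y : (tilde H).presheaf.stalk x, y = 0 by rw [h0 y, h0 z]
  intro y
  obtain ⟨⟨m, s⟩, hms⟩ := IsLocalizedModule.surj x.asIdeal.primeCompl (tilde.toStalk H x).hom y
  obtain ⟨a, ha⟩ := hH m
  have hfa : f ^ a ∈ x.asIdeal.primeCompl := fun h => hx (x.isPrime.mem_of_pow_mem a h)
  have h1 : (tilde.toStalk H x).hom m = 0 :=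
    (IsLocalizedModule.eq_zero_iff x.asIdeal.primeCompl (tilde.toStalk H x).hom).2
      ⟨⟨f ^ a, hfa⟩, ha⟩
  have h2 : s • y = 0 := hms.trans h1
  exact (IsLocalizedModule.smul_injective (tilde.toStalk H x).hom s) (h2.trans (smul_zero s).symm)

end Stalk

variable (A : Type u) [CommRing A] (fs : List A)
  [PreservesFiniteLimits (tilde.functor (CommRingCat.of A))]

/-- a complex with `fs`-power torsion cohomology gives a sheaf complex vanishing on the
complement of `V(fs)` -/
theorem vanishOn_of_powTors (N : Dual.D A) (hN : ∀ f ∈ fs, PowTors f N) :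
    VanishOn ((DCoh.tildeD (CommRingCat.of A)).obj N)
      ((LocCoh.puncturedOpen A (Ideal.span {a | a ∈ fs}) :
        (Spec (CommRingCat.of A)).Opens) : Set (Spec (CommRingCat.of A))) := by
  intro x hx n
  obtain ⟨f, hf, hfx⟩ := (mem_puncturedOpen_iff A fs x).1 hx
  refine subsingleton_stalk_of_iso (hdTildeDIso (CommRingCat.of A) N n).symm x ?_
  exact subsingleton_stalk_tilde' (CommRingCat.of A) _ f (fun m => hN f hf n m) x hfx

/-- Koszul orthogonal complexes give sheaf complexes right orthogonal to the objects supported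
on `V(fs)` -/
theorem orth_of_korth (B : Dual.D A) (hB : KOrth fs B) :
    Orth (fun N : DCoh.D (Spec (CommRingCat.of A)) =>
      VanishOn N ((LocCoh.puncturedOpen A (Ideal.span {a | a ∈ fs}) :
        (Spec (CommRingCat.of A)).Opens) : Set (Spec (CommRingCat.of A))))
      ((DCoh.tildeD (CommRingCat.of A)).obj B) := by
  let U : (Spec (CommRingCat.of A)).Opens := LocCoh.puncturedOpen A (Ideal.span {a | a ∈ fs})
  haveI : DCoh.HasRpush U.ι := hasRightDerivedFunctor (DCoh.pushKh U.ι)
  have hU := mem_puncturedOpen_iff A fs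
  have hUc := isCompact_puncturedOpen A fs
  have hmain := tildeD_main (CommRingCat.of A)
  haveI : (DCoh.tildeD (CommRingCat.of A)).Full := hmain.1
  have hE : DCoh.IsQCohD ((DCoh.tildeD (CommRingCat.of A)).obj B) :=
    (hmain.2.2 _).2 ⟨B, ⟨Iso.refl _⟩⟩
  have h : ∀ (n : ℤ) (φ : (kosT (CommRingCat.of A) fs)⟦n⟧ ⟶
      (DCoh.tildeD (CommRingCat.of A)).obj B), φ = 0 := by
    intro n φ
    let c := ((DCoh.tildeD (CommRingCat.of A)).commShiftIso n).app (kos fs)
    obtain ⟨ψ, hψ⟩ := (DCoh.tildeD (CommRingCat.of A)).map_surjective (c.hom ≫ φ)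
    have h0 : ψ = 0 := hB n ψ
    have h1 : c.hom ≫ φ = 0 := by rw [← hψ, h0, Functor.map_zero]
    have h2 : φ = c.inv ≫ c.hom ≫ φ := by simp
    rw [h2, h1, comp_zero]
  obtain ⟨M, hM, ⟨e⟩⟩ := (exists_rpush_iff_kos_orth (CommRingCat.of A) fs U hU hUc _ hE).2 h
  exact Orth.of_iso e.symm (orth_rpush_opens U M)

/-- **`RΓ_Z(M~)` is represented by the extended alternating Čech complex** -/
theorem main (M : ModuleCat.{u} A)
    [CxOX.HasRgammaZ (LocCoh.puncturedOpen A (Ideal.span {a | a ∈ fs})).ι] :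
    Nonempty ((DCoh.tildeD (CommRingCat.of A)).obj (DRing.toD (DerCA.extCech M fs)) ≅
      (CxOX.RgammaZ (LocCoh.puncturedOpen A (Ideal.span {a | a ∈ fs})).ι).obj
        ((DCoh.tildeD (CommRingCat.of A)).obj (Dual.inD A M))) := by
  let U : (Spec (CommRingCat.of A)).Opens := LocCoh.puncturedOpen A (Ideal.span {a | a ∈ fs})
  haveI : DCoh.HasRpush U.ι := hasRightDerivedFunctor (DCoh.pushKh U.ι)
  let K : DCoh.D (Spec (CommRingCat.of A)) := (DCoh.tildeD (CommRingCat.of A)).obj (Dual.inD A M)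
  obtain ⟨B, a, b, c, hT, hB⟩ := exists_triangle M fs
  have hT' := (DCoh.tildeD (CommRingCat.of A)).map_distinguished _ hT
  obtain ⟨g, δ, hR⟩ := CxTri.exists_triangle U K
  let S : DCoh.D (Spec (CommRingCat.of A)) → Prop :=
    fun N => VanishOn N (U : Set (Spec (CommRingCat.of A)))
  have hS : ∀ N, S N → S (N⟦(1 : ℤ)⟧) := fun N hN => vanishOn_shift hN 1
  have hA : S ((DCoh.tildeD (CommRingCat.of A)).obj (DRing.toD (DerCA.extCech M fs))) :=
    vanishOn_of_powTors A fs _ (powTors_extCech M fs)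
  have hA' : S ((CxOX.RgammaZ U.ι).obj K) := vanishOn_rgamma U K
  have hB1 : Orth S ((DCoh.tildeD (CommRingCat.of A)).obj B) := orth_of_korth A fs B hB
  have hB2 : Orth S ((DCoh.Rpush U.ι).obj ((DCoh.restrictD U.ι).obj K)) := orth_rpush_opens U _
  obtain ⟨α, hα⟩ := exists_of_coreflections (S := S) ((CxOX.RgammaZToId U.ι).app K) g δ hR
    ((DCoh.tildeD (CommRingCat.of A)).map a) hA hB2
  haveI : IsIso α := isIso_of_coreflections (S := S) hS ((CxOX.RgammaZToId U.ι).app K) g δ hR
    ((DCoh.tildeD (CommRingCat.of A)).map a) ((DCoh.tildeD (CommRingCat.of A)).map b) ((DCoh.tildeD (CommRingCat.of A)).map c ≫ ((DCoh.tildeD (CommRingCat.of A)).commShiftIso (1 : ℤ)).hom.app _) hT' hA' hA hB2 hB1 α hα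
  exact ⟨asIso α⟩

end Groth.Agent.Lib.Helper5.ExtCechRG
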